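import Groth.Prelude.Def_W4bk5brsh7111920
import Mathlib.Topology.NoetherianSpace
import Mathlib.Topology.Irreducible
import Mathlib.Topology.Connected.Basic

/-!
The connectedness dimension `LocCoh.connDim` and the subdimension `LocCoh.subdim` of a Noetherian
space: description by splittings of the set of irreducible components, strict inequality for
reducible spaces of finite dimension, attained infima.
-/

set_option autoImplicit false
universe u v

namespace K169.ConnDim

open TopologicalSpace LocCoh

variable {T : Type u} [TopologicalSpace T]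

theorem dim_mono {Z W : Set T} (h : Z ⊆ W) : topologicalKrullDim Z ≤ topologicalKrullDim W :=
  (Topology.IsEmbedding.inclusion h).isInducing.topologicalKrullDim_le

theorem dim_univ : topologicalKrullDim (Set.univ : Set T) = topologicalKrullDim T :=
  IsHomeomorph.topologicalKrullDim_eq _ (Homeomorph.Set.univ T).isHomeomorph

theorem dim_ne_bot {Z : Set T} (h : Z.Nonempty) : topologicalKrullDim Z ≠ ⊥ := by
  obtain ⟨x, hx⟩ := h
  intro hb
  have : IsEmpty (IrreducibleCloseds Z) := Order.krullDim_eq_bot_iff.1 hb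
  exact this.false ⟨closure {⟨x, hx⟩}, isIrreducible_singleton.closure, isClosed_closure⟩

theorem dim_empty : topologicalKrullDim (∅ : Set T) = ⊥ := by
  refine Order.krullDim_eq_bot_iff.2 ⟨fun C => ?_⟩
  obtain ⟨x, -⟩ := C.isIrreducible.nonempty
  exact x.2

theorem dim_eq_bot_iff {Z : Set T} : topologicalKrullDim Z = ⊥ ↔ Z = ∅ := by
  constructor
  · intro h
    by_contra hne
    exact dim_ne_bot (Set.nonempty_iff_ne_empty.2 hne) h
  · rintro rfl
    exact dim_empty

/-- A proper closed subset of an irreducible set of finite dimension has smaller dimension. -/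
theorem dim_lt_of_ssubset {C W : Set T} (hC : IsIrreducible C) (hW : IsClosed W) (hWC : W ⊂ C)
    (hfin : topologicalKrullDim C ≠ ⊤) : topologicalKrullDim W < topologicalKrullDim C := by
  refine lt_of_le_of_ne (dim_mono hWC.le) fun heq => ?_
  obtain ⟨d, hd⟩ : ∃ d : ℕ, topologicalKrullDim C = d := by
    have h1 := dim_ne_bot hC.nonempty
    generalize topologicalKrullDim C = v at h1 hfin
    induction v using WithBot.recBotCoe with
    | bot => exact absurd rfl h1
    | coe v =>
      induction v using ENat.recTopCoe with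
      | top => exact absurd rfl hfin
      | coe n => exact ⟨n, rfl⟩
  have hW' : ((d : ℕ) : WithBot ℕ∞) ≤ Order.krullDim (IrreducibleCloseds W) := (heq.trans hd).ge
  obtain ⟨l, hl⟩ := Order.le_krullDim_iff.mp hW'
  have hi : Topology.IsClosedEmbedding (Set.inclusion hWC.le) := by
    refine ⟨Topology.IsEmbedding.inclusion hWC.le, ?_⟩
    rw [Set.range_inclusion]
    exact hW.preimage continuous_subtype_val
  let m : LTSeries (IrreducibleCloseds C) :=
    l.map (IrreducibleCloseds.map _ hi.continuous)
      (IrreducibleCloseds.map_strictMono_of_isInducing hi.isInducing)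
  have hm : m.length = d := hl
  have : IrreducibleSpace C := isIrreducible_iff_irreducibleSpace.1 hC
  let top : IrreducibleCloseds C :=
    ⟨Set.univ, IrreducibleSpace.isIrreducible_univ C, isClosed_univ⟩
  have hlt : m.last < top := by
    refine lt_of_le_of_ne (fun x _ => Set.mem_univ x) fun h3 => ?_
    have h4 : (m.last : Set C) = Set.univ := by rw [h3]; rfl
    have h5 : (m.last : Set C) ⊆ Set.range (Set.inclusion hWC.le) := by
      have : m.last = IrreducibleCloseds.map _ hi.continuous l.last := rfl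
      rw [this, IrreducibleCloseds.coe_map]
      exact closure_minimal (Set.image_subset_range _ _) hi.isClosed_range
    rw [h4, Set.range_inclusion] at h5
    exact hWC.2 fun x hx => h5 (Set.mem_univ ⟨x, hx⟩)
  have h1 : ((m.snoc top hlt).length : WithBot ℕ∞) ≤
      Order.krullDim (IrreducibleCloseds C) := Order.LTSeries.length_le_krullDim (m.snoc top hlt)
  rw [show Order.krullDim (IrreducibleCloseds C) = (d : WithBot ℕ∞) from hd, RelSeries.snoc_length,
    hm] at h1
  have h2 : d + 1 ≤ d := by exact_mod_cast h1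
  omega

theorem connDim_le {Z : Set T} (h : IsClosed Z) (h' : ¬ IsConnected Zᶜ) :
    connDim T ≤ topologicalKrullDim Z :=
  iInf₂_le Z ⟨h, h'⟩

theorem subdim_le {Z : Set T} (h : Z ∈ irreducibleComponents T) :
    subdim T ≤ topologicalKrullDim Z :=
  iInf₂_le Z h

/-- The infimum in the definition of the connectedness dimension is attained. -/
theorem exists_connDim_eq (T : Type u) [TopologicalSpace T] :
    ∃ Z : Set T, IsClosed Z ∧ ¬ IsConnected Zᶜ ∧ connDim T = topologicalKrullDim Z := by
  have hne : (Set.range fun Z : {Z : Set T // IsClosed Z ∧ ¬ IsConnected Zᶜ} =>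
      topologicalKrullDim Z.1).Nonempty :=
    ⟨_, ⟨⟨Set.univ, isClosed_univ, by simp [IsConnected]⟩, rfl⟩⟩
  obtain ⟨⟨Z, hZ⟩, h⟩ := csInf_mem hne
  refine ⟨Z, hZ.1, hZ.2, ?_⟩
  rw [connDim, iInf_subtype']
  exact h.symm

/-- The infimum in the definition of the subdimension is attained. -/
theorem exists_subdim_eq (T : Type u) [TopologicalSpace T] [Nonempty T] :
    ∃ Z ∈ irreducibleComponents T, subdim T = topologicalKrullDim Z := by
  have hne : (Set.range fun Z : irreducibleComponents T =>
      topologicalKrullDim Z.1).Nonempty :=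
    ⟨_, ⟨⟨irreducibleComponent (Classical.arbitrary T),
      irreducibleComponent_mem_irreducibleComponents _⟩, rfl⟩⟩
  obtain ⟨⟨Z, hZ⟩, h⟩ := csInf_mem hne
  refine ⟨Z, hZ, ?_⟩
  rw [subdim, iInf_subtype']
  exact h.symm

variable [NoetherianSpace T]

theorem isClosed_sUnion {A : Set (Set T)} (hA : A ⊆ irreducibleComponents T) :
    IsClosed (⋃₀ A) := by
  rw [Set.sUnion_eq_biUnion]
  exact Set.Finite.isClosed_biUnion (NoetherianSpace.finite_irreducibleComponents.subset hA)
    fun t ht => isClosed_of_mem_irreducibleComponents t (hA ht)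

theorem eq_of_sUnion_eq_univ {A : Set (Set T)} (hA : A ⊆ irreducibleComponents T)
    (h : ⋃₀ A = Set.univ) : A = irreducibleComponents T := by
  refine le_antisymm hA fun Z hZ => ?_
  exact mem_of_subset_sUnion_irreducibleComponents Z hZ A
    (NoetherianSpace.finite_irreducibleComponents.subset hA) hA (by rw [h]; exact Set.subset_univ _)

theorem not_isConnected_compl_inter {A B : Set (Set T)} (hA : A ⊆ irreducibleComponents T)
    (hB : B ⊆ irreducibleComponents T) (hA1 : A ≠ irreducibleComponents T)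
    (hB1 : B ≠ irreducibleComponents T) (hAB : A ∪ B = irreducibleComponents T) :
    ¬ IsConnected (⋃₀ A ∩ ⋃₀ B)ᶜ := by
  intro h
  have hcov : ⋃₀ A ∪ ⋃₀ B = Set.univ := by
    rw [← Set.sUnion_union, hAB, sUnion_irreducibleComponents]
  have h1 : (⋃₀ A)ᶜ.Nonempty := by
    rw [Set.nonempty_compl]
    exact fun h => hA1 (eq_of_sUnion_eq_univ hA h)
  have h2 : (⋃₀ B)ᶜ.Nonempty := by
    rw [Set.nonempty_compl]
    exact fun h => hB1 (eq_of_sUnion_eq_univ hB h)
  obtain ⟨x, -, hx1, hx2⟩ := h.isPreconnected (⋃₀ A)ᶜ (⋃₀ B)ᶜ (isClosed_sUnion hA).isOpen_compl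
    (isClosed_sUnion hB).isOpen_compl (by rw [Set.compl_inter])
    (by
      obtain ⟨x, hx⟩ := h1
      exact ⟨x, fun h => hx h.1, hx⟩)
    (by
      obtain ⟨x, hx⟩ := h2
      exact ⟨x, fun h => hx h.2, hx⟩)
  have : x ∈ ⋃₀ A ∪ ⋃₀ B := hcov ▸ Set.mem_univ x
  exact this.elim hx1 hx2

theorem connDim_le_of_split {A B : Set (Set T)} (hA : A ⊆ irreducibleComponents T)
    (hB : B ⊆ irreducibleComponents T) (hA0 : A.Nonempty) (hB0 : B.Nonempty)
    (hAB : A ∪ B = irreducibleComponents T) :
    connDim T ≤ topologicalKrullDim ↥(⋃₀ A ∩ ⋃₀ B) := by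
  -- the case where one of the two families is not everything
  have aux : ∀ {A B : Set (Set T)}, A ⊆ irreducibleComponents T → B ⊆ irreducibleComponents T →
      A.Nonempty → B.Nonempty → A ∪ B = irreducibleComponents T → B ≠ irreducibleComponents T →
      connDim T ≤ topologicalKrullDim ↥(⋃₀ A ∩ ⋃₀ B) := by
    intro A B hA hB hA0 hB0 hAB hB1
    have h1 : irreducibleComponents T \ B ⊆ A := by
      intro C hC
      have : C ∈ A ∪ B := hAB ▸ hC.1
      exact this.resolve_right hC.2
    have h2 : irreducibleComponents T \ B ≠ irreducibleComponents T := by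
      obtain ⟨C, hC⟩ := hB0
      intro h
      have : C ∈ irreducibleComponents T \ B := by rw [h]; exact hB hC
      exact this.2 hC
    refine (connDim_le ?_ (not_isConnected_compl_inter (A := irreducibleComponents T \ B) (B := B)
      Set.sdiff_subset hB h2 hB1 (Set.sdiff_union_of_subset hB))).trans
      (dim_mono (Set.inter_subset_inter_left _ (Set.sUnion_subset_sUnion h1)))
    exact (isClosed_sUnion Set.sdiff_subset).inter (isClosed_sUnion hB)
  by_cases hB1 : B = irreducibleComponents T
  · by_cases hA1 : A = irreducibleComponents T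
    · rw [hA1, hB1, sUnion_irreducibleComponents, Set.inter_self]
      exact connDim_le isClosed_univ (by simp [IsConnected])
    · rw [Set.inter_comm]
      exact aux hB hA hB0 hA0 (by rw [Set.union_comm, hAB]) hA1
  · exact aux hA hB hA0 hB0 hAB hB1

omit [NoetherianSpace T] in
/-- A closed set with disconnected complement contains the intersection of the two parts of a
splitting of the set of irreducible components. -/
theorem exists_split {Z : Set T} (hZ : IsClosed Z) (hZc : Zᶜ.Nonempty) (h : ¬ IsConnected Zᶜ) :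
    ∃ A B : Set (Set T), A ⊆ irreducibleComponents T ∧ B ⊆ irreducibleComponents T ∧ A.Nonempty ∧
      B.Nonempty ∧ A ∪ B = irreducibleComponents T ∧ A ∩ B = ∅ ∧ ⋃₀ A ∩ ⋃₀ B ⊆ Z := by
  have h1 : ¬ IsPreconnected Zᶜ := fun h' => h ⟨hZc, h'⟩
  rw [IsPreconnected] at h1
  push Not at h1
  obtain ⟨u, v, hu, hv, huv, hu0, hv0, hemp⟩ := h1
  set A : Set (Set T) := {C | C ∈ irreducibleComponents T ∧ ¬ (C ∩ (Zᶜ ∩ v)).Nonempty} with hA
  set B : Set (Set T) := {C | C ∈ irreducibleComponents T ∧ (C ∩ (Zᶜ ∩ v)).Nonempty} with hB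
  have key : ∀ C ∈ irreducibleComponents T, (C ∩ (Zᶜ ∩ u)).Nonempty → (C ∩ (Zᶜ ∩ v)).Nonempty →
      False := by
    intro C hC h2 h3
    obtain ⟨x, hx, hx1, hx2⟩ := hC.1.2 _ _ (hZ.isOpen_compl.inter hu) (hZ.isOpen_compl.inter hv) h2 h3
    have : x ∈ Zᶜ ∩ (u ∩ v) := ⟨hx1.1, hx1.2, hx2.2⟩
    rw [hemp] at this
    exact this
  have hex : ∀ x : T, ∃ C ∈ irreducibleComponents T, x ∈ C := fun x =>
    ⟨_, irreducibleComponent_mem_irreducibleComponents x, mem_irreducibleComponent⟩
  refine ⟨A, B, fun C hC => hC.1, fun C hC => hC.1, ?_, ?_, ?_, ?_, ?_⟩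
  · obtain ⟨x, hx⟩ := hu0
    obtain ⟨C, hC, hxC⟩ := hex x
    exact ⟨C, hC, fun h => key C hC ⟨x, hxC, hx⟩ h⟩
  · obtain ⟨x, hx⟩ := hv0
    obtain ⟨C, hC, hxC⟩ := hex x
    exact ⟨C, hC, x, hxC, hx⟩
  · ext C
    constructor
    · rintro (h | h) <;> exact h.1
    · intro hC
      by_cases h : (C ∩ (Zᶜ ∩ v)).Nonempty
      · exact Or.inr ⟨hC, h⟩
      · exact Or.inl ⟨hC, h⟩
  · ext C
    simp only [Set.mem_inter_iff, Set.mem_empty_iff_false, iff_false]
    rintro ⟨h2, h3⟩
    exact h2.2 h3.2
  · rintro x ⟨⟨C, hC, hxC⟩, ⟨D, hD, hxD⟩⟩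
    by_contra hxZ
    rcases huv hxZ with h | h
    · exact key D hD.1 ⟨x, hxD, hxZ, h⟩ hD.2
    · exact hC.2 ⟨x, hxC, hxZ, h⟩

theorem connDim_eq_iInf [Nonempty T] : connDim T =
    ⨅ (A : Set (Set T)) (B : Set (Set T)) (_ : A ⊆ irreducibleComponents T ∧
      B ⊆ irreducibleComponents T ∧ A.Nonempty ∧ B.Nonempty ∧ A ∪ B = irreducibleComponents T),
      topologicalKrullDim ↥(⋃₀ A ∩ ⋃₀ B) := by
  refine le_antisymm (le_iInf fun A => le_iInf fun B => le_iInf fun h =>
    connDim_le_of_split h.1 h.2.1 h.2.2.1 h.2.2.2.1 h.2.2.2.2) ?_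
  refine le_iInf₂ fun Z hZ => ?_
  rcases Zᶜ.eq_empty_or_nonempty with h | h
  · have hne : (irreducibleComponents T).Nonempty :=
      ⟨_, irreducibleComponent_mem_irreducibleComponents (Classical.arbitrary T)⟩
    refine (iInf_le _ (irreducibleComponents T)).trans ((iInf_le _ (irreducibleComponents T)).trans
      ((iInf_le _ ⟨le_rfl, le_rfl, hne, hne, Set.union_self _⟩).trans (dim_mono ?_)))
    rw [Set.compl_empty_iff.1 h]
    exact Set.subset_univ _
  · obtain ⟨A, B, hA, hB, hA0, hB0, hAB, -, hsub⟩ := exists_split hZ.1 h hZ.2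
    exact (iInf_le _ A).trans ((iInf_le _ B).trans ((iInf_le _ ⟨hA, hB, hA0, hB0, hAB⟩).trans
      (dim_mono hsub)))

omit [NoetherianSpace T] in
theorem connDim_eq_of_irreducible [IrreducibleSpace T] : connDim T = topologicalKrullDim T := by
  refine le_antisymm ?_ (le_iInf₂ fun Z hZ => ?_)
  · rw [← dim_univ]
    exact connDim_le isClosed_univ (by simp [IsConnected])
  · rcases Zᶜ.eq_empty_or_nonempty with h | h
    · rw [Set.compl_empty_iff.1 h, dim_univ]
    · exfalso
      apply hZ.2
      have : IsIrreducible (Set.univ : Set T) := IrreducibleSpace.isIrreducible_univ T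
      refine ⟨h, ?_⟩
      refine IsPreirreducible.isPreconnected ?_
      exact this.2.open_subset hZ.1.isOpen_compl (Set.subset_univ _)

omit [NoetherianSpace T] in
theorem subdim_eq_of_irreducible [IrreducibleSpace T] : subdim T = topologicalKrullDim T := by
  rw [subdim, irreducibleComponents_eq_singleton]
  simp [dim_univ]

theorem connDim_lt_of_mem [Nonempty T] (hT : ¬ IrreducibleSpace T) {C : Set T}
    (hC : C ∈ irreducibleComponents T) (hfin : topologicalKrullDim C ≠ ⊤) :
    connDim T < topologicalKrullDim C := by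
  have h1 : ∃ D ∈ irreducibleComponents T, D ≠ C := by
    by_contra h
    push Not at h
    apply hT
    have : C = Set.univ := by
      rw [Set.eq_univ_iff_forall]
      intro x
      have := h _ (irreducibleComponent_mem_irreducibleComponents x)
      exact this ▸ mem_irreducibleComponent
    have h2 : IsIrreducible (Set.univ : Set T) := this ▸ hC.1
    exact (irreducibleSpace_def T).2 h2
  obtain ⟨D, hD, hDC⟩ := h1
  have h2 : ({C} : Set (Set T)) ⊆ irreducibleComponents T := by simpa using hC
  refine (connDim_le_of_split h2 (B := irreducibleComponents T \ {C}) Set.sdiff_subset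
    ⟨C, rfl⟩ ⟨D, hD, hDC⟩ (Set.union_sdiff_cancel h2)).trans_lt ?_
  refine dim_lt_of_ssubset hC.1 ((isClosed_sUnion h2).inter (isClosed_sUnion Set.sdiff_subset)) ?_ hfin
  refine ⟨fun x hx => by simpa using hx.1, fun hsub => ?_⟩
  have h3 : C ⊆ ⋃₀ (irreducibleComponents T \ {C}) := fun x hx => (hsub hx).2
  have := mem_of_subset_sUnion_irreducibleComponents C hC _
    (NoetherianSpace.finite_irreducibleComponents.subset Set.sdiff_subset) Set.sdiff_subset h3
  exact this.2 rfl

theorem connDim_lt_subdim [Nonempty T] (hT : ¬ IrreducibleSpace T)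
    (hfin : topologicalKrullDim T < ⊤) : connDim T < subdim T := by
  obtain ⟨C, hC, h⟩ := exists_subdim_eq T
  rw [h]
  exact connDim_lt_of_mem hT hC ((topologicalKrullDim_subspace_le T C).trans_lt hfin).ne

theorem connDim_le_subdim [Nonempty T] (hfin : topologicalKrullDim T < ⊤) :
    connDim T ≤ subdim T := by
  by_cases hT : IrreducibleSpace T
  · rw [connDim_eq_of_irreducible, subdim_eq_of_irreducible]
  · exact (connDim_lt_subdim hT hfin).le

end K169.ConnDim
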