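import Groth.Agent.LocCoh.K169.ConnDim
import Groth.Agent.S0815
import Mathlib.RingTheory.KrullDimension.LocalRing
import Mathlib.RingTheory.Spectrum.Prime.Noetherian

/-!
Connectedness dimension of spectra: Faltings' connectedness theorem (S0815) restated with
`connDim` and `subdim`.
-/

set_option autoImplicit false
universe u v

namespace K169.ConnLoc

open TopologicalSpace LocCoh PrimeSpectrum IsLocalRing K169.ConnDim Groth.Agent.FormalA.ConnDim

variable {R : Type u} [CommRing R]

theorem zeroLocus_mem_irreducibleComponents {p : Ideal R} (hp : p ∈ minimalPrimes R) :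
    zeroLocus (p : Set R) ∈ irreducibleComponents (PrimeSpectrum R) := by
  rw [zeroLocus_ideal_mem_irreducibleComponents, hp.1.1.radical]
  exact hp

theorem subdim_le_ringKrullDim {p : Ideal R} (hp : p ∈ minimalPrimes R) :
    subdim (PrimeSpectrum R) ≤ ringKrullDim (R ⧸ p) := by
  rw [← topologicalKrullDim_zeroLocus]
  exact subdim_le (zeroLocus_mem_irreducibleComponents hp)

theorem exists_subdim_eq_ringKrullDim (R : Type u) [CommRing R] [Nontrivial R] :
    ∃ p ∈ minimalPrimes R, subdim (PrimeSpectrum R) = ringKrullDim (R ⧸ p) := by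
  obtain ⟨Z, hZ, h⟩ := exists_subdim_eq (PrimeSpectrum R)
  rw [← zeroLocus_minimalPrimes] at hZ
  obtain ⟨p, hp, rfl⟩ := hZ
  exact ⟨p, hp, by rw [h]; exact topologicalKrullDim_zeroLocus p⟩

theorem subdim_le_dim (R : Type u) [CommRing R] [Nontrivial R] :
    subdim (PrimeSpectrum R) ≤ ringKrullDim R := by
  obtain ⟨p, -, h⟩ := exists_subdim_eq_ringKrullDim R
  rw [h]
  exact ringKrullDim_quotient_le p

theorem isConnected_univ_of_isLocalRing (R : Type u) [CommRing R] [IsLocalRing R] :
    IsConnected (Set.univ : Set (PrimeSpectrum R)) := by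
  refine ⟨Set.univ_nonempty, ?_⟩
  rw [isPreconnected_closed_iff]
  rintro t t' ht ht' - ⟨x, -, hx⟩ ⟨y, -, hy⟩
  have key : ∀ {t : Set (PrimeSpectrum R)} {x : PrimeSpectrum R}, IsClosed t → x ∈ t →
      closedPoint R ∈ t := by
    intro t x ht hx
    obtain ⟨I, rfl⟩ := (isClosed_iff_zeroLocus_ideal t).1 ht
    rw [mem_zeroLocus] at hx ⊢
    exact hx.trans (le_maximalIdeal x.2.ne_top)
  exact ⟨closedPoint R, trivial, key ht hx, key ht' hy⟩

theorem connDim_ne_bot (R : Type u) [CommRing R] [IsLocalRing R] :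
    connDim (PrimeSpectrum R) ≠ ⊥ := by
  obtain ⟨Z, -, hZ, h⟩ := exists_connDim_eq (PrimeSpectrum R)
  rw [h]
  refine dim_ne_bot ?_
  by_contra hne
  rw [Set.not_nonempty_iff_eq_empty] at hne
  subst hne
  rw [Set.compl_empty] at hZ
  exact hZ (isConnected_univ_of_isLocalRing R)

theorem dim_lt_top (R : Type u) [CommRing R] [IsLocalRing R] [IsNoetherianRing R] :
    topologicalKrullDim (PrimeSpectrum R) < ⊤ := by
  rw [PrimeSpectrum.topologicalKrullDim_eq_ringKrullDim]
  exact ringKrullDim_lt_top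

theorem connDim_le_dim (T : Type u) [TopologicalSpace T] : connDim T ≤ topologicalKrullDim T := by
  rw [← dim_univ (T := T)]
  exact connDim_le isClosed_univ (by simp [IsConnected])

theorem connDim_ne_top (R : Type u) [CommRing R] [IsLocalRing R] [IsNoetherianRing R] :
    connDim (PrimeSpectrum R) ≠ ⊤ :=
  ((connDim_le_dim _).trans_lt (dim_lt_top R)).ne

/-- Faltings' connectedness theorem for a complete local ring, in terms of two closed sets. -/
theorem split (R : Type u) [CommRing R] [IsNoetherianRing R] [IsLocalRing R]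
    [IsAdicComplete (maximalIdeal R) R] (a b : Ideal R) (ha : a ≠ ⊤)
    (hab : ringKrullDim (R ⧸ (a ⊔ b)) < min (ringKrullDim (R ⧸ a)) (ringKrullDim (R ⧸ b)))
    (k : ℕ) (hk : CdLE R (a ⊓ b) k) :
    (∃ p ∈ minimalPrimes R, ringKrullDim (R ⧸ p) ≤ ringKrullDim (R ⧸ (a ⊔ b)) + ((k + 1 : ℕ) : WithBot ℕ∞)) ∨
      ∃ Z : Set (PrimeSpectrum R), IsClosed Z ∧ ¬ IsConnected Zᶜ ∧
        topologicalKrullDim Z ≤ ringKrullDim (R ⧸ (a ⊔ b)) + (k : WithBot ℕ∞) := by
  by_contra hcon
  push Not at hcon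
  have hI : a ⊓ b ≠ ⊤ := fun h => ha (top_le_iff.1 (h.ge.trans inf_le_left))
  have h := Groth.Agent.S0815.result R (a ⊓ b) hI k hk (zeroLocus ((a ⊔ b : Ideal R) : Set R))
    (isClosed_zeroLocus _) (zeroLocus_anti_mono_ideal (inf_le_left.trans le_sup_left))
    (by rw [topologicalKrullDim_zeroLocus]; exact hcon.1)
    (by rw [topologicalKrullDim_zeroLocus]; exact hcon.2)
  have h1 : zeroLocus ((a ⊓ b : Ideal R) : Set R) = zeroLocus (a : Set R) ∪ zeroLocus (b : Set R) :=
    zeroLocus_inf a b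
  have h2 : zeroLocus ((a ⊔ b : Ideal R) : Set R) = zeroLocus (a : Set R) ∩ zeroLocus (b : Set R) :=
    zeroLocus_sup a b
  have h3 : (zeroLocus (a : Set R) \ zeroLocus (b : Set R)).Nonempty := by
    by_contra hne
    rw [Set.not_nonempty_iff_eq_empty, Set.sdiff_eq_empty] at hne
    have : ringKrullDim (R ⧸ a) ≤ ringKrullDim (R ⧸ (a ⊔ b)) := by
      refine ringKrullDim_quotient_le_of_zeroLocus_subset ?_
      rw [h2]
      exact Set.subset_inter le_rfl hne
    exact absurd (this.trans_lt (hab.trans_le (min_le_left _ _))) (lt_irrefl _)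
  have h4 : (zeroLocus (b : Set R) \ zeroLocus (a : Set R)).Nonempty := by
    by_contra hne
    rw [Set.not_nonempty_iff_eq_empty, Set.sdiff_eq_empty] at hne
    have : ringKrullDim (R ⧸ b) ≤ ringKrullDim (R ⧸ (a ⊔ b)) := by
      refine ringKrullDim_quotient_le_of_zeroLocus_subset ?_
      rw [h2]
      exact Set.subset_inter hne le_rfl
    exact absurd (this.trans_lt (hab.trans_le (min_le_right _ _))) (lt_irrefl _)
  rw [h1, h2] at h
  obtain ⟨x, hx, hx1, hx2⟩ := isPreconnected_closed_iff.1 h.isPreconnected _ _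
    (isClosed_zeroLocus (a : Set R)) (isClosed_zeroLocus (b : Set R)) Set.sdiff_subset
    (by
      obtain ⟨x, hx⟩ := h3
      exact ⟨x, ⟨Or.inl hx.1, fun h => hx.2 h.2⟩, hx.1⟩)
    (by
      obtain ⟨x, hx⟩ := h4
      exact ⟨x, ⟨Or.inr hx.1, fun h => hx.2 h.1⟩, hx.1⟩)
  exact hx.2 ⟨hx1, hx2⟩

theorem min_le_add (R : Type u) [CommRing R] [IsNoetherianRing R] [IsLocalRing R]
    [IsAdicComplete (maximalIdeal R) R] (a b : Ideal R) (ha : a ≠ ⊤)
    (hab : ringKrullDim (R ⧸ (a ⊔ b)) < min (ringKrullDim (R ⧸ a)) (ringKrullDim (R ⧸ b)))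
    (k : ℕ) (hk : CdLE R (a ⊓ b) k) :
    min (connDim (PrimeSpectrum R) + 1) (subdim (PrimeSpectrum R)) ≤
      ringKrullDim (R ⧸ (a ⊔ b)) + (k : WithBot ℕ∞) + 1 := by
  rcases split R a b ha hab k hk with ⟨p, hp, h⟩ | ⟨Z, hZ, hZc, h⟩
  · refine (min_le_right _ _).trans ((subdim_le_ringKrullDim hp).trans (h.trans ?_))
    rw [add_assoc]
    push_cast
    exact le_rfl
  · refine (min_le_left _ _).trans ?_
    gcongr
    exact (connDim_le hZ hZc).trans h

theorem dim_le_add (R : Type u) [CommRing R] [IsDomain R] [IsNoetherianRing R] [IsLocalRing R]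
    [IsAdicComplete (maximalIdeal R) R] (a b : Ideal R) (ha : a ≠ ⊤)
    (hab : ringKrullDim (R ⧸ (a ⊔ b)) < min (ringKrullDim (R ⧸ a)) (ringKrullDim (R ⧸ b)))
    (k : ℕ) (hk : CdLE R (a ⊓ b) k) :
    ringKrullDim R ≤ ringKrullDim (R ⧸ (a ⊔ b)) + (k : WithBot ℕ∞) + 1 := by
  rcases split R a b ha hab k hk with ⟨p, hp, h⟩ | ⟨Z, hZ, hZc, h⟩
  · rw [IsDomain.minimalPrimes_eq_singleton_bot, Set.mem_singleton_iff] at hp
    subst hp
    rw [ringKrullDim_eq_of_ringEquiv (RingEquiv.quotientBot R)] at h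
    refine h.trans ?_
    rw [add_assoc]
    push_cast
    exact le_rfl
  · rw [← PrimeSpectrum.topologicalKrullDim_eq_ringKrullDim, ← connDim_eq_of_irreducible]
    exact (connDim_le hZ hZc).trans (h.trans (le_add_of_nonneg_right zero_le_one))

/-- The connectedness bound for complete local rings. -/
theorem min_le_connDim_add (R : Type u) [CommRing R] [IsNoetherianRing R] [IsLocalRing R]
    [IsAdicComplete (maximalIdeal R) R] (a : Ideal R) (ha : a ≠ ⊤) (k : ℕ) (hk : CdLE R a k) :
    min (connDim (PrimeSpectrum R) + 1) (subdim (PrimeSpectrum R)) ≤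
      connDim (PrimeSpectrum (R ⧸ a)) + (k : WithBot ℕ∞) + 1 := by
  by_contra hcon
  rw [not_le, lt_min_iff] at hcon
  obtain ⟨Z, hZ, hZc, hdim⟩ := exists_connDim_eq (PrimeSpectrum (R ⧸ a))
  have hs : Function.Surjective (Ideal.Quotient.mk a) := Ideal.Quotient.mk_surjective
  have he := isClosedEmbedding_comap_of_surjective _ (Ideal.Quotient.mk a) hs
  have hr : Set.range (PrimeSpectrum.comap (Ideal.Quotient.mk a)) = zeroLocus (R := R) (a : Set R) := by
    rw [range_comap_of_surjective _ _ hs, Ideal.mk_ker]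
  set π := PrimeSpectrum.comap (Ideal.Quotient.mk a) with hπ
  have hd : topologicalKrullDim (π '' Z) = topologicalKrullDim Z :=
    (IsHomeomorph.topologicalKrullDim_eq _ (he.isEmbedding.homeomorphImage Z).isHomeomorph).symm
  have hc : IsConnected (zeroLocus (a : Set R) \ π '' Z) := by
    refine Groth.Agent.S0815.result R a ha k hk (π '' Z) (he.isClosedMap Z hZ) ?_ ?_ ?_
    · rw [← hr]
      exact Set.image_subset_range _ _
    · intro p hp
      rw [hd, ← hdim]
      push_cast
      rw [← add_assoc]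
      exact hcon.2.trans_le (subdim_le_ringKrullDim hp)
    · intro Z' hZ' hZc'
      rw [hd, ← hdim]
      by_contra hle
      rw [not_lt] at hle
      have h1 : connDim (PrimeSpectrum R) ≤ connDim (PrimeSpectrum (R ⧸ a)) + (k : WithBot ℕ∞) :=
        (connDim_le hZ' hZc').trans hle
      have h2 : connDim (PrimeSpectrum R) + 1 ≤
          connDim (PrimeSpectrum (R ⧸ a)) + (k : WithBot ℕ∞) + 1 := by gcongr
      exact absurd (hcon.1.trans_le h2) (lt_irrefl _)
  rw [← hr, ← Set.image_univ, ← Set.image_sdiff he.injective, ← Set.compl_eq_univ_sdiff] at hc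
  apply hZc
  refine ⟨Set.image_nonempty.1 hc.nonempty, ?_⟩
  exact he.isEmbedding.isInducing.isPreconnected_image.1 hc.isPreconnected

theorem cdLE_of_radical_span (R : Type u) [CommRing R] [IsNoetherianRing R] (a : Ideal R)
    (s : Finset R) (hs : (Ideal.span (s : Set R)).radical = a.radical) : CdLE R a s.card :=
  Groth.Agent.FormalA.ConnCd.cdLE_of_radical_eq hs (Groth.Agent.S0326.result R s)

theorem not_irreducibleSpace (R : Type u) [CommRing R] (h : (minimalPrimes R).Nontrivial) :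
    ¬ IrreducibleSpace (PrimeSpectrum R) := by
  intro hirr
  obtain ⟨p, hp, q, hq, hne⟩ := h
  have h1 := zeroLocus_mem_irreducibleComponents hp
  have h2 := zeroLocus_mem_irreducibleComponents hq
  rw [irreducibleComponents_eq_singleton, Set.mem_singleton_iff] at h1 h2
  apply hne
  have h3 := congrArg vanishingIdeal (h1.trans h2.symm)
  rwa [vanishingIdeal_zeroLocus_eq_radical, vanishingIdeal_zeroLocus_eq_radical, hp.1.1.radical,
    hq.1.1.radical] at h3

end K169.ConnLoc
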